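import Cfsg.Agent.Helper18.InvOdd.ToN
import Cfsg.Agent.Helper40.SL2Chev
import Cfsg.Agent.Helper18.TorusH
import Cfsg.Agent.Helper18.WeylHomData
import Cfsg.Agent.Helper18.Graded

/-!
Helper36 (S4280): the working interface for `F₄(F)` (port of helper18's `G₂` interface `Helper18.InvOdd.G2Api/G2N/G2B`):
root elements `X r t`, the rank-one relations, the torus and its characters, the monomial group, conjugacy under `G`.

Roots are the indices `0..47`, `-r = 47 - r`, the positive roots are `24..47`; fundamental roots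
`chevF4.simple 0 = 33`, `simple 1 = 27` (short), `simple 2 = 25`, `simple 3 = 24` (long).
-/

set_option autoImplicit false
set_option maxRecDepth 100000

namespace Cfsg.Agent.Helper36.F4Odd

open Cfsg Cfsg.Lie Cfsg.Agent.Helper18 Cfsg.Agent.Helper40.SL2Hom

theorem hF4 : chevF4 ∈ [chevG2, chevB2, chevD4, chevF4, chevE6, chevE7, chevE8] := by simp

theorem haddF4 : Cfsg.Agent.Helper40.ChevAdd.addOK chevF4 = true := Cfsg.Agent.Helper40.ChevAdd.addOK_of_mem hF4

section
variable {F : Type*} [Field F]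

/-- the root elements -/
noncomputable def X (r : ℕ) (t : F) : GL chevF4.Idx F := xGL chevF4 F r t

theorem X_eq (r : ℕ) (t : F) : X r t = Cfsg.Agent.Helper40.ChevAdd.xGL chevF4 haddF4 F r t := by
  apply Units.ext
  rw [X, xGL_val chevF4 _ (triOK_of_mem chevF4 hF4)]
  rfl

theorem X_add (r : ℕ) (s t : F) : X r (s + t) = X r s * X r t := (xGL_mul_add chevF4 hF4 r s t).symm

theorem X_mem_group (r : ℕ) (t : F) : X r t ∈ chevF4.group F := xGL_mem_group' chevF4 hF4 r t

theorem neg_eq (r : ℕ) (hr : r < 48) : chevF4.neg r = 47 - r := by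
  revert r; decide

/-- the rank-one relations for the pair `(r, -r)` -/
theorem relX (r : ℕ) (hr : r < 48) : Rel (X (F := F) r) (X (47 - r)) := by
  have h := Cfsg.Agent.Helper40.SL2Chev.rel (F := F) chevF4 haddF4 hF4 r hr
  rw [neg_eq r hr] at h
  have e1 : X (F := F) r = Cfsg.Agent.Helper40.ChevAdd.xGL chevF4 haddF4 F r := funext fun t => X_eq r t
  have e2 : X (F := F) (47 - r) = Cfsg.Agent.Helper40.ChevAdd.xGL chevF4 haddF4 F (47 - r) := funext fun t => X_eq _ t
  rw [e1, e2]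
  exact h

/-- `n_r = n_r(1)` -/
noncomputable def nn (r : ℕ) : GL chevF4.Idx F := w (X (F := F) r) (X (47 - r)) 1

/-- `h_r(t)` -/
noncomputable def hh (r : ℕ) (t : F) : GL chevF4.Idx F := h (X (F := F) r) (X (47 - r)) t

theorem nn_eq (r : ℕ) (hr : r < 48) : nn (F := F) r = wordGL chevF4 F (chevF4.nWord r (1 : F)) := by
  rw [wordGL_nWord', neg_eq r hr]
  rfl

theorem nn_mem_monomial (r : ℕ) (hr : r < 48) : nn (F := F) r ∈ chevF4.monomialSubgroup F := by
  rw [nn_eq r hr]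
  exact nGL_mem_monomialSubgroup chevF4 hF4 r hr

theorem monomial_le_group : chevF4.monomialSubgroup F ≤ chevF4.group F :=
  (Cfsg.Agent.S1043.result (F := F) chevF4 hF4).2.1

theorem borel_le_group : chevF4.borelSubgroup F ≤ chevF4.group F :=
  (Cfsg.Agent.S1043.result (F := F) chevF4 hF4).1

theorem hh_val (r : ℕ) (hr : r < 48) (t : F) :
    ((hh r t : GL chevF4.Idx F) : Matrix chevF4.Idx chevF4.Idx F) = chevF4.hMat F r t := by
  have e : hh r t = Cfsg.Agent.Helper40.SL2Chev.hG chevF4 haddF4 r t := by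
    unfold hh Cfsg.Agent.Helper40.SL2Chev.hG
    rw [neg_eq r hr]
    have e1 : X (F := F) r = Cfsg.Agent.Helper40.ChevAdd.xGL chevF4 haddF4 F r := funext fun t => X_eq r t
    have e2 : X (F := F) (47 - r) = Cfsg.Agent.Helper40.ChevAdd.xGL chevF4 haddF4 F (47 - r) :=
      funext fun t => X_eq _ t
    rw [e1, e2]
  rw [e, Cfsg.Agent.Helper40.SL2Chev.coe_hG]

theorem hh_mem_diagonal (r : ℕ) (hr : r < 48) (t : F) (ht : t ≠ 0) : hh r t ∈ chevF4.diagonalSubgroup F :=
  Subgroup.subset_closure ⟨r, t, hr, ht, hh_val r hr t⟩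

/-- `h_r(u) x_s(t) h_r(u)⁻¹ = x_s(u^{⟨s, r^∨⟩} t)` -/
theorem hh_conj (r s : ℕ) (hr : r < 48) (hs : s < 48) (u t : F) (hu : u ≠ 0) :
    hh r u * X s t * (hh r u)⁻¹ = X s (u ^ pairing' chevF4 r s * t) := by
  rw [mul_inv_eq_iff_eq_mul]
  apply Units.ext
  rw [Units.val_mul, Units.val_mul, hh_val r hr, X, X, xGL_val chevF4 _ (triOK_of_mem chevF4 hF4),
    xGL_val chevF4 _ (triOK_of_mem chevF4 hF4)]
  exact hMat_mul_x chevF4 (by simp [allData]) r s hr hs u t hu

/-- the value of the root `s` on `∏ h_{p_i}(c_i)` -/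
def chr (s : ℕ) (c : Fin chevF4.rank → Fˣ) : Fˣ := ∏ i : Fin chevF4.rank, c i ^ chevF4.cartan i.val s

/-- the torus element `∏ h_{p_i}(c_i)` -/
noncomputable def tor (c : Fin chevF4.rank → Fˣ) : GL chevF4.Idx F := torusHom chevF4 F c

theorem tor_mem (c : Fin chevF4.rank → Fˣ) : tor c ∈ chevF4.diagonalSubgroup F := torusHom_mem chevF4 hF4 _

theorem mem_diagonal_iff (k : GL chevF4.Idx F) : k ∈ chevF4.diagonalSubgroup F ↔ ∃ c : Fin chevF4.rank → Fˣ, k = tor c := by
  rw [← torusHom_range chevF4 hF4]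
  constructor
  · rintro ⟨c, rfl⟩
    exact ⟨c, rfl⟩
  · rintro ⟨c, rfl⟩
    exact ⟨_, rfl⟩

/-- the torus acts on the root groups through the characters -/
theorem tor_conj (c : Fin chevF4.rank → Fˣ) (s : ℕ) (hs : s < 48) (t : F) :
    tor c * X s t * (tor c)⁻¹ = X s ((chr s c : Fˣ) * t) := by
  obtain ⟨χ, -, hd, hc, -⟩ := Cfsg.Agent.Helper18.Ree.diag_char_neg chevF4 hF4 _ (tor_mem (F := F) c)
  have h1 := hc s hs t
  rw [mul_inv_eq_iff_eq_mul]
  have h2 : χ s = ((chr s c : Fˣ) : F) := by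
    have h3 := congrFun (congrFun hd (Sum.inr ⟨s, hs⟩)) (Sum.inr ⟨s, hs⟩)
    rw [Matrix.diagonal_apply_eq] at h3
    simp only [Sum.elim_inr] at h3
    rw [← h3]
    unfold tor
    rw [torusHom_val, Matrix.diagonal_apply_eq]
    simp only [torusChar, MonoidHom.coe_mk, OneHom.coe_mk, Sum.elim_inr]
    rfl
  rw [← h2]
  exact h1

theorem tor_mul (c d : Fin chevF4.rank → Fˣ) : tor c * tor d = tor (F := F) (c * d) := by
  unfold tor
  rw [← map_mul]

theorem tor_one : tor (F := F) 1 = 1 := by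
  unfold tor
  rw [map_one]

theorem tor_inv (c : Fin chevF4.rank → Fˣ) : (tor c)⁻¹ = tor (F := F) c⁻¹ := by
  unfold tor
  rw [map_inv]

theorem chr_mul (s : ℕ) (c d : Fin chevF4.rank → Fˣ) : chr s (c * d) = chr s c * chr s d := by
  unfold chr
  rw [← Finset.prod_mul_distrib]
  apply Finset.prod_congr rfl
  intro i _
  rw [Pi.mul_apply, mul_zpow]

theorem chr_one (s : ℕ) : chr s (1 : Fin chevF4.rank → Fˣ) = 1 := by
  unfold chr
  simp

end

end Cfsg.Agent.Helper36.F4Odd
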