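import Cfsg.Agent.Helper36.F4Odd.NApi
import Cfsg.Agent.Helper36.ChevNF4

/-!
Helper36 (S4280): definitions for the reduction of the involutions of `N` to `H` in `F₄(F)`, `|F|` odd.

A word `w` in `{0,1,2,3}` acts on the root indices `0..47` through `aW w` (`= rho chevF4 w` below 48, computable).
`negCount w` counts the roots `x` with `w x = -x`.  The seven standard involutions `stdW κ`.
`SqAt m r`: `m` maps `X_r(t)` to `X_{-r}(e² t)`.
-/

set_option autoImplicit false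
set_option maxRecDepth 100000

namespace Cfsg.Agent.Helper36.F4Odd

open Cfsg Cfsg.Lie Cfsg.Agent.Helper18 Cfsg.Agent.Helper19.Cox

/-- the action of a word on a root index, from the packed tables (computable) -/
abbrev aW (w : List ℕ) (x : ℕ) : ℕ := Cfsg.Agent.Helper36.F4Mix.aW w x

theorem aW_eq_rho (w : List ℕ) (hw : ∀ i ∈ w, i < 4) (x : ℕ) (hx : x < 48) :
    aW w x = rho chevF4 w x ∧ rho chevF4 w x < 48 :=
  Cfsg.Agent.Helper36.F4Mix.aW_eq_rho w hw x hx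

theorem aW_lt (w : List ℕ) (hw : ∀ i ∈ w, i < 4) (x : ℕ) (hx : x < 48) : aW w x < 48 :=
  Cfsg.Agent.Helper36.F4Mix.aW_lt w hw x hx

theorem aW_append (w w' : List ℕ) (x : ℕ) : aW (w ++ w') x = aW w (aW w' x) :=
  actW_append _ _ _ _ _ _

/-- the number of roots `x` with `w x = -x` -/
def negCount (w : List ℕ) : ℕ := ((List.range 48).filter fun x => decide (aW w x = 47 - x)).length

/-- the seven standard involutions of `W(F₄)`: `s_{p₄}`, `s_{p₁}`, `s_{p₁} s_{p₄}`, and the longest elements of the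
parabolic subgroups `⟨s₂, s₃⟩` (`B₂`), `⟨s₂, s₃, s₄⟩` (`B₃`), `⟨s₁, s₂, s₃⟩` (`C₃`) and of `W` -/
def stdW : List (List ℕ) :=
  [[3], [0], [0, 3], [2, 1, 2, 1], [3, 2, 1, 2, 3, 2, 1, 2, 1], [2, 1, 2, 0, 1, 2, 0, 1, 0],
    [3, 2, 1, 2, 0, 1, 2, 3, 2, 1, 2, 0, 1, 2, 3, 2, 1, 2, 0, 1, 2, 0, 1, 0]]

section
variable {F : Type*} [Field F]

/-- `m` maps `X_r(t)` to `X_{-r}(e² t)` -/
def SqAt (m : GL chevF4.Idx F) (r : ℕ) : Prop :=
  ∃ e : F, e ≠ 0 ∧ ∀ t : F, m * X r t * m⁻¹ = X (47 - r) (e * e * t)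

end

/-- the sign masks of the four fundamental reflections (kernel-checked data of `Helper36.ChevNF4`) -/
def epF4 (i : ℕ) : ℕ :=
  [Cfsg.Agent.Helper36.epF4_0, Cfsg.Agent.Helper36.epF4_1, Cfsg.Agent.Helper36.epF4_2, Cfsg.Agent.Helper36.epF4_3].getD i 0

/-- the sign of `n_w x_s(t) n_w⁻¹ = x_{w s}(± t)` -/
def sgW : List ℕ → ℕ → ℤ
  | [], _ => 1
  | i :: w, s => Cfsg.Agent.Helper36.etaAt (epF4 i) (aW w s) * sgW w s

end Cfsg.Agent.Helper36.F4Odd
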