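import Cfsg.Agent.Helper36.F4Odd.Defs
import Cfsg.Agent.Helper19.Twist.SpecCount
import Cfsg.Agent.Helper19.Twist.CellWeyl

/-!
Helper36 (S4280): definitions for PART II (the involutions of `H`) and PART III (the centralizer orders).

* `sv b`, `b < 16` a bit mask: the tuple `((-1)^{b₀}, (-1)^{b₁}, (-1)^{b₂}, (-1)^{b₃})`; `tor (sv b)` are the sixteen
  elements of `H` of order at most two.  `par b s = true` iff the root `s` takes the value `-1` on `tor (sv b)`.
* `Zc t` the centralizer of `t` in the ambient general linear group.
* `phiO` an injective grading of the positive roots, `posList` the positive roots in `phiO`-order,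
  `negList w` the positive roots made negative by the word `w`.
* `allEntries` the `1152` normal forms of the elements of `W(F₄)`, `Tb b` those which fix `tor (sv b)`.
* `ell b w` the number of roots of `negList w` with value `1` on `tor (sv b)`.
-/

set_option autoImplicit false
set_option maxRecDepth 100000

namespace Cfsg.Agent.Helper36.F4Odd

open Cfsg Cfsg.Lie Cfsg.Agent.Helper18 Cfsg.Agent.Helper19.Twist

section
variable {F : Type*} [Field F]

/-- the sign tuple of the bit mask `b` -/
def sv (b : ℕ) : Fin chevF4.rank → Fˣ := fun i => if b.testBit i.val then -1 else 1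

/-- the centralizer of an element in the ambient group -/
def Zc (t : GL chevF4.Idx F) : Subgroup (GL chevF4.Idx F) := Subgroup.centralizer {t}

theorem mem_Zc (t g : GL chevF4.Idx F) : g ∈ Zc t ↔ g * t = t * g := by
  unfold Zc
  rw [Subgroup.mem_centralizer_iff]
  constructor
  · intro h
    exact (h t rfl).symm
  · intro h x hx
    rw [Set.mem_singleton_iff.mp hx]
    exact h.symm

end

/-- `Σ_{i ∈ b} ⟨s, p_i^∨⟩` -/
def parSum (b s : ℕ) : ℤ :=
  (if b.testBit 0 then chevF4.cartan 0 s else 0) + (if b.testBit 1 then chevF4.cartan 1 s else 0) +
    (if b.testBit 2 then chevF4.cartan 2 s else 0) + (if b.testBit 3 then chevF4.cartan 3 s else 0)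

/-- packed parities: bit `s` of the entry `b` is set iff `parSum b s` is odd -/
def parTab : List ℕ :=
  [0, 18812898130056, 2190433353600, 18563790030600, 119630370288438, 138339380726718, 120068456959158,
    136544084423742, 218222832852579, 236827960354539, 219382474039779, 235960376973675, 187696175033685,
    206335929652701, 188340420137685, 204884230728285]

/-- the root `s` takes the value `-1` on `tor (sv b)` -/
def par (b s : ℕ) : Bool := (parTab.getD b 0).testBit s

theorem par_spec : ∀ b < 16, ∀ s < 48, par b s = decide (parSum b s % 2 = 1) := by decide +kernel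

/-- an injective grading of the positive roots (values `1, 100, 1000, 10` on the fundamental roots) -/
def phiO (r : ℕ) : ℤ :=
  2312 * chevF4.cartan 0 r + 4623 * chevF4.cartan 1 r + 6834 * chevF4.cartan 2 r + 3422 * chevF4.cartan 3 r

theorem gradeOK_O : gradeOK' chevF4 phiO Cfsg.Agent.Helper40.UData.witF4 = true := by decide +kernel

/-- the positive roots in `phiO`-order -/
def posList : List ℕ :=
  [33, 24, 27, 34, 25, 26, 28, 35, 29, 36, 30, 37, 41, 31, 38, 42, 32, 39, 43, 40, 44, 45, 46, 47]

theorem closed_posList : ClosedList chevF4 phiO posList := closedOK_spec (by decide +kernel)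

theorem mem_posList (r : ℕ) : r ∈ posList ↔ 24 ≤ r ∧ r < 48 := by
  constructor
  · intro h
    revert r
    decide
  · rintro ⟨h1, h2⟩
    revert h1
    revert r
    decide

/-- the positive roots made negative by the word `w` -/
def negList (w : List ℕ) : List ℕ := posList.filter fun r => decide (aW w r < 24)

/-- the word `w` preserves the values of the roots on `tor (sv b)` -/
def presB (b : ℕ) (w : List ℕ) : Bool := (List.range 48).all fun x => par b (aW w x) == par b x

/-- the `1152` normal forms `tws1[a] ++ L8[j]` -/
def allEntries : List (List ℕ) :=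
  (List.range 144).flatMap fun a => (List.range 8).map fun j =>
    Cfsg.Agent.Helper36.F4Mix.tws1.getD a [] ++ Cfsg.Agent.Helper36.F4Mix.L8.getD j []

/-- the normal forms which fix `tor (sv b)` -/
def Tb (b : ℕ) : List (List ℕ) := allEntries.filter (presB b)

/-- the number of roots of `negList w` with value `1` on `tor (sv b)` -/
def ell (b : ℕ) (w : List ℕ) : ℕ := ((negList w).filter fun r => !par b r).length

end Cfsg.Agent.Helper36.F4Odd
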