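import Cfsg.Agent.Helper36.F4Odd.MainII
import Cfsg.Agent.S1035

/-!
Helper36 (S4280): the final assembly: the two standard involutions, their centralizer orders as polynomials in `q`.
-/

set_option autoImplicit false
set_option maxRecDepth 100000

namespace Cfsg.Agent.Helper36.F4Odd

open Cfsg Cfsg.Lie Cfsg.Agent.Helper18 Cfsg.Agent.Helper36.F4OddSkel Cfsg.Agent.Helper19.Twist

/-- the centralizer inside a subgroup -/
theorem card_centralizer_subtype {Γ : Type*} [Group Γ] (G : Subgroup Γ) (s : ↥G) :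
    Nat.card ↥(Subgroup.centralizer ({s} : Set ↥G)) =
      Nat.card ↥(G ⊓ Subgroup.centralizer ({(s : Γ)} : Set Γ)) := by
  apply Nat.card_congr
  refine ⟨fun x => ⟨(x.1 : Γ), x.1.2, ?_⟩, fun y => ⟨⟨(y : Γ), y.2.1⟩, ?_⟩, fun x => rfl, fun y => rfl⟩
  · show (x.1 : Γ) ∈ Subgroup.centralizer ({(s : Γ)} : Set Γ)
    rw [Subgroup.mem_centralizer_iff]
    intro h hh
    rw [Set.mem_singleton_iff.mp hh]
    have := (Subgroup.mem_centralizer_iff.mp x.2) s rfl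
    exact congrArg Subtype.val this
  · rw [Subgroup.mem_centralizer_iff]
    intro h hh
    rw [Set.mem_singleton_iff.mp hh]
    apply Subtype.ext
    exact (Subgroup.mem_centralizer_iff.mp y.2.2) _ rfl

/-- conjugate elements have centralizers of the same order -/
theorem card_centralizer_conj {Γ : Type*} [Group Γ] (g s : Γ) :
    Nat.card ↥(Subgroup.centralizer ({s} : Set Γ)) = Nat.card ↥(Subgroup.centralizer ({g * s * g⁻¹} : Set Γ)) := by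
  apply Nat.card_congr
  refine ⟨fun x => ⟨g * x.1 * g⁻¹, ?_⟩, fun y => ⟨g⁻¹ * y.1 * g, ?_⟩, fun x => ?_, fun y => ?_⟩
  · rw [Subgroup.mem_centralizer_iff]
    intro h hh
    rw [Set.mem_singleton_iff.mp hh]
    have h1 : s * x.1 = x.1 * s := (Subgroup.mem_centralizer_iff.mp x.2) s rfl
    calc g * s * g⁻¹ * (g * x.1 * g⁻¹) = g * (s * x.1) * g⁻¹ := by group
      _ = g * (x.1 * s) * g⁻¹ := by rw [h1]
      _ = g * x.1 * g⁻¹ * (g * s * g⁻¹) := by group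
  · rw [Subgroup.mem_centralizer_iff]
    intro h hh
    rw [Set.mem_singleton_iff.mp hh]
    have h1 : g * s * g⁻¹ * y.1 = y.1 * (g * s * g⁻¹) := (Subgroup.mem_centralizer_iff.mp y.2) _ rfl
    calc s * (g⁻¹ * y.1 * g) = g⁻¹ * ((g * s * g⁻¹) * y.1) * g := by group
      _ = g⁻¹ * (y.1 * (g * s * g⁻¹)) * g := by rw [h1]
      _ = g⁻¹ * y.1 * g * s := by group
  · apply Subtype.ext
    show g⁻¹ * (g * x.1 * g⁻¹) * g = x.1
    group
  · apply Subtype.ext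
    show g * (g⁻¹ * y.1 * g) * g⁻¹ = y.1
    group

theorem arith1 (q : ℕ) (hq : 1 ≤ q) :
    q ^ 16 * (q - 1) ^ 4 * (1 + 4 * q + 9 * q ^ 2 + 16 * q ^ 3 + 24 * q ^ 4 + 32 * q ^ 5 + 39 * q ^ 6 + 44 * q ^ 7 +
      46 * q ^ 8 + 44 * q ^ 9 + 39 * q ^ 10 + 32 * q ^ 11 + 24 * q ^ 12 + 16 * q ^ 13 + 9 * q ^ 14 + 4 * q ^ 15 + q ^ 16) =
    q ^ 16 * (q ^ 2 - 1) * (q ^ 4 - 1) * (q ^ 6 - 1) * (q ^ 8 - 1) := by
  have h2 : 1 ≤ q ^ 2 := Nat.one_le_pow _ _ hq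
  have h4 : 1 ≤ q ^ 4 := Nat.one_le_pow _ _ hq
  have h6 : 1 ≤ q ^ 6 := Nat.one_le_pow _ _ hq
  have h8 : 1 ≤ q ^ 8 := Nat.one_le_pow _ _ hq
  zify [hq, h2, h4, h6, h8]
  ring

theorem arith8 (q : ℕ) (hq : 1 ≤ q) :
    q ^ 10 * (q - 1) ^ 4 * (1 + 4 * q + 8 * q ^ 2 + 12 * q ^ 3 + 15 * q ^ 4 + 16 * q ^ 5 + 15 * q ^ 6 + 12 * q ^ 7 +
      8 * q ^ 8 + 4 * q ^ 9 + q ^ 10) =
    q ^ 10 * (q ^ 2 - 1) ^ 2 * (q ^ 4 - 1) * (q ^ 6 - 1) := by
  have h2 : 1 ≤ q ^ 2 := Nat.one_le_pow _ _ hq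
  have h4 : 1 ≤ q ^ 4 := Nat.one_le_pow _ _ hq
  have h6 : 1 ≤ q ^ 6 := Nat.one_le_pow _ _ hq
  zify [hq, h2, h4, h6]
  ring

/-- the two orders are different -/
theorem arith_ne (q : ℕ) (hq : 2 ≤ q) :
    q ^ 16 * (q ^ 2 - 1) * (q ^ 4 - 1) * (q ^ 6 - 1) * (q ^ 8 - 1) ≠
      q ^ 10 * (q ^ 2 - 1) ^ 2 * (q ^ 4 - 1) * (q ^ 6 - 1) := by
  have hq1 : 1 ≤ q := by omega
  have h2 : 1 ≤ q ^ 2 := Nat.one_le_pow _ _ hq1
  have h4 : 1 ≤ q ^ 4 := Nat.one_le_pow _ _ hq1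
  have h6 : 1 ≤ q ^ 6 := Nat.one_le_pow _ _ hq1
  have h8 : 1 ≤ q ^ 8 := Nat.one_le_pow _ _ hq1
  have hA : 0 < q ^ 2 - 1 := by
    have : 4 ≤ q ^ 2 := by nlinarith
    omega
  have hB : 0 < q ^ 4 - 1 := by
    have : 4 ≤ q ^ 4 := by nlinarith [Nat.one_le_pow 2 q hq1]
    omega
  have hC : 0 < q ^ 6 - 1 := by
    have : 4 ≤ q ^ 6 := by nlinarith [Nat.one_le_pow 4 q hq1]
    omega
  have hD : 1 ≤ q ^ 8 - 1 := by
    have : 4 ≤ q ^ 8 := by nlinarith [Nat.one_le_pow 6 q hq1]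
    omega
  intro h
  have e1 : q ^ 16 * (q ^ 2 - 1) * (q ^ 4 - 1) * (q ^ 6 - 1) * (q ^ 8 - 1) =
      (q ^ 10 * (q ^ 2 - 1) * (q ^ 4 - 1) * (q ^ 6 - 1)) * (q ^ 6 * (q ^ 8 - 1)) := by ring
  have e2 : q ^ 10 * (q ^ 2 - 1) ^ 2 * (q ^ 4 - 1) * (q ^ 6 - 1) =
      (q ^ 10 * (q ^ 2 - 1) * (q ^ 4 - 1) * (q ^ 6 - 1)) * (q ^ 2 - 1) := by ring
  rw [e1, e2] at h
  have hpos : 0 < q ^ 10 * (q ^ 2 - 1) * (q ^ 4 - 1) * (q ^ 6 - 1) := by positivity
  have h3 := Nat.eq_of_mul_eq_mul_left hpos h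
  have h5 : q ^ 2 ≤ q ^ 6 := Nat.pow_le_pow_right hq1 (by norm_num)
  have h7 : q ^ 6 ≤ q ^ 6 * (q ^ 8 - 1) := Nat.le_mul_of_pos_right _ hD
  omega

section
variable {F : Type*} [Field F] [Fintype F]

theorem neg_one_ne_one_units (hF : Odd (Fintype.card F)) : (-1 : Fˣ) ≠ 1 := by
  intro h
  have h1 : (-1 : F) = 1 := by
    have := congrArg Units.val h
    simpa using this
  have h2 : (2 : F) = 0 := by
    have : (1 : F) + 1 = 0 := by
      nth_rewrite 1 [← h1]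
      ring
    rw [← this]; norm_num
  have hc : ringChar F = 2 := by
    have hdvd : ringChar F ∣ 2 := (ringChar.spec F 2).mp (by exact_mod_cast h2)
    have hp : (ringChar F).Prime := CharP.char_is_prime F (ringChar F)
    exact (Nat.prime_dvd_prime_iff_eq hp Nat.prime_two).mp hdvd
  have h3 : ringChar F ∣ Fintype.card F := by
    have : ((Fintype.card F : ℕ) : F) = 0 := Nat.cast_card_eq_zero F
    exact (ringChar.spec F _).mp this
  rw [hc] at h3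
  exact (Nat.not_even_iff_odd.mpr hF) (even_iff_two_dvd.mpr h3)

theorem sv_mul_self (b : ℕ) : sv (F := F) b * sv b = 1 := by
  funext i
  rw [Pi.mul_apply, Pi.one_apply]
  unfold sv
  split_ifs <;> simp

theorem tor_sv_sq (b : ℕ) : tor (F := F) (sv b) * tor (sv b) = 1 := by
  rw [tor_mul, sv_mul_self, tor_one]

theorem tor_sv_ne_one (hF : Odd (Fintype.card F)) (b i : ℕ) (hi : i < 4) (hb : b.testBit i = true) :
    tor (F := F) (sv b) ≠ 1 := by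
  intro h
  rw [← tor_one] at h
  have h1 := congrFun (tor_inj _ _ h) (⟨i, hi⟩ : Fin chevF4.rank)
  unfold sv at h1
  rw [if_pos hb, Pi.one_apply] at h1
  exact neg_one_ne_one_units hF h1

theorem card_diag : Nat.card ↥(chevF4.diagonalSubgroup F) = (Fintype.card F - 1) ^ 4 := by
  have h := Cfsg.Agent.S1035.result (F := F) (q := Fintype.card F) rfl (chevF4, 1) (by simp)
  have h' : 1 * Nat.card ↥(chevF4.diagonalSubgroup F) = (Fintype.card F - 1) ^ 4 := h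
  rw [one_mul] at h'
  exact h'

theorem card_Zc1 (hF : Odd (Fintype.card F)) :
    Nat.card ↥(chevF4.group F ⊓ Zc (tor (F := F) (sv 1))) =
      Fintype.card F ^ 16 * (Fintype.card F ^ 2 - 1) * (Fintype.card F ^ 4 - 1) * (Fintype.card F ^ 6 - 1) *
        (Fintype.card F ^ 8 - 1) := by
  rw [card_Zc hF 1 (by norm_num) Tb1_distinct Tb1_closed, Tb1_sum, card_diag]
  have e : (posList.filter fun r => !par 1 r).length = 16 := by decide
  rw [e]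
  exact arith1 _ Fintype.card_pos

theorem card_Zc8 (hF : Odd (Fintype.card F)) :
    Nat.card ↥(chevF4.group F ⊓ Zc (tor (F := F) (sv 8))) =
      Fintype.card F ^ 10 * (Fintype.card F ^ 2 - 1) ^ 2 * (Fintype.card F ^ 4 - 1) * (Fintype.card F ^ 6 - 1) := by
  rw [card_Zc hF 8 (by norm_num) Tb8_distinct Tb8_closed, Tb8_sum, card_diag]
  have e : (posList.filter fun r => !par 8 r).length = 10 := by decide
  rw [e]
  exact arith8 _ Fintype.card_pos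

end

end Cfsg.Agent.Helper36.F4Odd
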