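import Cfsg.Agent.Helper36.F4Odd.HedgeBL
import Cfsg.Agent.Helper65.F4OddCJ
import Cfsg.Agent.Helper50.F4OddFL
import Cfsg.Agent.Helper89.G2InvFF2

/-!
Helper36 (S4280), piece (AL) (own hedge): an involution `k n_w` with `w p₃ = -p₃`, `w p₂ = -p₂` is conjugate to an
involution `k' n_w` which is a square at `p₃` or at `p₂`.
-/

set_option autoImplicit false
set_option maxRecDepth 100000

namespace Cfsg.Agent.Helper36.F4Odd

open Cfsg Cfsg.Lie Cfsg.Agent.Helper18

theorem sgW_sq (w : List ℕ) (s : ℕ) : sgW w s * sgW w s = 1 := by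
  induction w with
  | nil => simp [sgW]
  | cons i w ih =>
    rw [sgW]
    have h := Cfsg.Agent.Helper36.etaAt_sq (epF4 i) (aW w s)
    calc Cfsg.Agent.Helper36.etaAt (epF4 i) (aW w s) * sgW w s * (Cfsg.Agent.Helper36.etaAt (epF4 i) (aW w s) * sgW w s)
        = (Cfsg.Agent.Helper36.etaAt (epF4 i) (aW w s) * Cfsg.Agent.Helper36.etaAt (epF4 i) (aW w s)) *
          (sgW w s * sgW w s) := by ring
      _ = 1 := by rw [h, ih, mul_one]

theorem int_pm_of_sq (z : ℤ) (hz : z * z = 1) : z = 1 ∨ z = -1 := by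
  have h : (z - 1) * (z + 1) = 0 := by ring_nf; linarith
  rcases mul_eq_zero.mp h with h | h
  · left; omega
  · right; omega

theorem al_data : aW [2] 28 = 27 ∧ aW [2] 19 = 20 ∧ (∀ i ∈ [2], i < 4) ∧ pairing' chevF4 25 27 = -1 ∧
    (∀ l : Fin chevF4.rank, chevF4.cartan l.val 19 = chevF4.cartan l.val 22 + chevF4.cartan l.val 20) := by
  decide +kernel

section
variable {F : Type*} [Field F]

theorem isSquare_sign (hm1 : IsSquare (-1 : F)) (z : ℤ) (hz : z * z = 1) : IsSquare ((z : ℤ) : F) := by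
  rcases int_pm_of_sq z hz with rfl | rfl
  · exact ⟨1, by simp⟩
  · simpa using hm1

theorem cast_sgW_sq (w : List ℕ) (s : ℕ) : ((sgW w s : ℤ) : F) * ((sgW w s : ℤ) : F) = 1 := by
  rw [← Int.cast_mul, sgW_sq]
  simp

theorem adj_square_hedge [Fintype F] (hF : Odd (Fintype.card F)) (w : List ℕ) (hw : ∀ i ∈ w, i < 4)
    (h1 : aW w 25 = 22) (h2 : aW w 27 = 20) (h3 : aW w 28 = 19)
    (hcomm : ∀ x < 48, aW (2 :: (w ++ [2])) x = aW w x)
    (c : Fin chevF4.rank → Fˣ) (hmm : (tor c * nW w) * (tor c * nW w) = 1) :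
    ∃ c' : Fin chevF4.rank → Fˣ, ConjG (tor c * nW w) (tor c' * nW w) ∧
      (SqAt (tor c' * nW w) 25 ∨ SqAt (tor c' * nW w) 27) := by
  obtain ⟨d1, d2, d3, d4, d5⟩ := al_data
  set m : GL chevF4.Idx F := tor c * nW w with hm
  have H25 := Cfsg.Agent.Helper60.F4Odd.monomial_conj_sg (F := F) c w hw 25 (by norm_num)
  have H27 := Cfsg.Agent.Helper60.F4Odd.monomial_conj_sg (F := F) c w hw 27 (by norm_num)
  have H28 := Cfsg.Agent.Helper60.F4Odd.monomial_conj_sg (F := F) c w hw 28 (by norm_num)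
  rw [h1] at H25
  rw [h2] at H27
  rw [h3] at H28
  rw [← hm] at H25 H27 H28
  set c25 : F := ((chr 22 c : Fˣ) : F) * ((sgW w 25 : ℤ) : F) with hc25
  set c27 : F := ((chr 20 c : Fˣ) : F) * ((sgW w 27 : ℤ) : F) with hc27
  set c28 : F := ((chr 19 c : Fˣ) : F) * ((sgW w 28 : ℤ) : F) with hc28
  have s25 := cast_sgW_sq (F := F) w 25
  have s27 := cast_sgW_sq (F := F) w 27
  have s28 := cast_sgW_sq (F := F) w 28
  have hne25 : c25 ≠ 0 := by
    rw [hc25]
    refine mul_ne_zero (Units.ne_zero _) ?_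
    intro h
    rw [h, mul_zero] at s25
    exact zero_ne_one s25
  have hne27 : c27 ≠ 0 := by
    rw [hc27]
    refine mul_ne_zero (Units.ne_zero _) ?_
    intro h
    rw [h, mul_zero] at s27
    exact zero_ne_one s27
  -- the easy cases
  by_cases hsq25 : IsSquare c25
  · obtain ⟨e, he⟩ := hsq25
    refine ⟨c, ConjG.refl _, Or.inl ⟨e, ?_, fun t => ?_⟩⟩
    · rintro rfl
      rw [mul_zero] at he
      exact hne25 he
    · rw [H25 t, he]
  by_cases hsq27 : IsSquare c27
  · obtain ⟨e, he⟩ := hsq27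
    refine ⟨c, ConjG.refl _, Or.inr ⟨e, ?_, fun t => ?_⟩⟩
    · rintro rfl
      rw [mul_zero] at he
      exact hne27 he
    · rw [H27 t, he]
  by_cases hm1 : IsSquare (-1 : F)
  · -- `-1` is a square: conjugate by `n_{p₃}`
    have hprod : IsSquare (c25 * c27) := Cfsg.Agent.Helper89.G2Inv.isSquare_mul_of_not_isSquare hF hsq25 hsq27
    have hz : IsSquare (((sgW w 25 * sgW w 27 * sgW w 28 : ℤ) : ℤ) : F) := by
      apply isSquare_sign hm1
      have a1 := sgW_sq w 25
      have a2 := sgW_sq w 27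
      have a3 := sgW_sq w 28
      calc sgW w 25 * sgW w 27 * sgW w 28 * (sgW w 25 * sgW w 27 * sgW w 28)
          = (sgW w 25 * sgW w 25) * (sgW w 27 * sgW w 27) * (sgW w 28 * sgW w 28) := by ring
        _ = 1 := by rw [a1, a2, a3]; norm_num
    have e28 : c28 = (c25 * c27) * (((sgW w 25 * sgW w 27 * sgW w 28 : ℤ) : ℤ) : F) := by
      rw [hc28, hc25, hc27, chr_add c 22 20 19 d5]
      push_cast
      linear_combination (-(((chr 22 c : Fˣ) : F) * ((chr 20 c : Fˣ) : F) * ((sgW w 28 : ℤ) : F) *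
        ((sgW w 27 : ℤ) : F) * ((sgW w 27 : ℤ) : F))) * s25 -
        (((chr 22 c : Fˣ) : F) * ((chr 20 c : Fˣ) : F) * ((sgW w 28 : ℤ) : F)) * s27
    have hsq28 : IsSquare c28 := by
      rw [e28]
      exact hprod.mul hz
    -- the conjugate
    obtain ⟨k', hk', econj⟩ := Cfsg.Agent.Helper65.F4OddCJ.conj_to_std (F := F) w [2] w hw d3 hw
      (fun x hx => by
        have : [2] ++ w ++ [2].reverse = 2 :: (w ++ [2]) := by simp
        rw [this]
        exact hcomm x hx) (tor c) (tor_mem c)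
    obtain ⟨c', rfl⟩ := (mem_diagonal_iff k').mp hk'
    rw [← hm] at econj
    refine ⟨c', ⟨nW [2], monomial_le_group (nW_mem [2] d3), econj⟩, Or.inr ?_⟩
    rw [← econj]
    -- the action on `X_27`
    have A1 := Cfsg.Agent.Helper60.F4Odd.nW_conj_sg (F := F) [2] d3 28 (by norm_num)
    have A2 := Cfsg.Agent.Helper60.F4Odd.nW_conj_sg (F := F) [2] d3 19 (by norm_num)
    rw [d1] at A1
    rw [d2] at A2
    have t1 := cast_sgW_sq (F := F) [2] 28
    have t2 := cast_sgW_sq (F := F) [2] 19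
    have hσ : IsSquare (((sgW [2] 19 * sgW [2] 28 : ℤ) : ℤ) : F) := by
      apply isSquare_sign hm1
      have a1 := sgW_sq [2] 19
      have a2 := sgW_sq [2] 28
      calc sgW [2] 19 * sgW [2] 28 * (sgW [2] 19 * sgW [2] 28)
          = (sgW [2] 19 * sgW [2] 19) * (sgW [2] 28 * sgW [2] 28) := by ring
        _ = 1 := by rw [a1, a2]; norm_num
    obtain ⟨f, hf⟩ := hsq28.mul hσ
    have hf0 : f ≠ 0 := by
      rintro rfl
      rw [mul_zero] at hf
      have hc28ne : c28 ≠ 0 := by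
        rw [hc28]
        refine mul_ne_zero (Units.ne_zero _) ?_
        intro h
        rw [h, mul_zero] at s28
        exact zero_ne_one s28
      rcases mul_eq_zero.mp hf with h | h
      · exact hc28ne h
      · push_cast at h
        rcases mul_eq_zero.mp h with h | h
        · rw [h, mul_zero] at t2; exact zero_ne_one t2
        · rw [h, mul_zero] at t1; exact zero_ne_one t1
    refine ⟨f, hf0, fun t => ?_⟩
    have B1 : (nW [2])⁻¹ * X 27 t * nW [2] = X 28 (((sgW [2] 28 : ℤ) : F) * t) := by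
      have := A1 (((sgW [2] 28 : ℤ) : F) * t)
      rw [← mul_assoc, t1, one_mul] at this
      rw [← this]
      group
    calc nW [2] * m * (nW [2])⁻¹ * X 27 t * (nW [2] * m * (nW [2])⁻¹)⁻¹
        = nW [2] * (m * ((nW [2])⁻¹ * X 27 t * nW [2]) * m⁻¹) * (nW [2])⁻¹ := by group
      _ = X 20 (((sgW [2] 19 : ℤ) : F) * (c28 * (((sgW [2] 28 : ℤ) : F) * t))) := by
        rw [B1, H28, A2]
      _ = X (47 - 27) (f * f * t) := by
        rw [← hf]
        push_cast
        congr 1
        ring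
  · -- `-1` is not a square: the flip
    have hinv : ¬ IsSquare c25⁻¹ := by
      rintro ⟨r, hr⟩
      apply hsq25
      refine ⟨r⁻¹, ?_⟩
      rw [← mul_inv, ← hr, inv_inv]
    obtain ⟨f, hf⟩ := Cfsg.Agent.Helper89.G2Inv.isSquare_mul_of_not_isSquare hF hm1 hinv
    have hf0 : f ≠ 0 := by
      rintro rfl
      rw [mul_zero] at hf
      rcases mul_eq_zero.mp hf with h | h
      · exact neg_ne_zero.mpr one_ne_zero h
      · exact inv_ne_zero hne25 h
    have hc : c25 * (f * f) = -1 := by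
      rw [← hf]
      field_simp
    have hfl := Cfsg.Agent.Helper50.F4OddFL.flip_reduce hF 25 (by norm_num) m hmm c25 f hf0 hc (fun t => H25 t)
    have hk2 : nW w * hh 25 (-1 : F) * (nW w)⁻¹ ∈ chevF4.diagonalSubgroup F :=
      conj_mem_diagonal _ _ (nW_mem w hw) (hh_mem_diagonal 25 (by norm_num) _ (neg_ne_zero.mpr one_ne_zero))
    obtain ⟨c', hc'⟩ := (mem_diagonal_iff _).mp (mul_mem (tor_mem c) hk2)
    have em : m * hh 25 (-1 : F) = tor c' * nW w := by
      rw [← hc', hm]
      group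
    refine ⟨c', ?_, Or.inr ?_⟩
    · rw [← em]; exact hfl
    · rw [← em]
      obtain ⟨g, hg⟩ := Cfsg.Agent.Helper89.G2Inv.isSquare_mul_of_not_isSquare hF hm1 hsq27
      have hg0 : g ≠ 0 := by
        rintro rfl
        rw [mul_zero] at hg
        rcases mul_eq_zero.mp hg with h | h
        · exact neg_ne_zero.mpr one_ne_zero h
        · exact hne27 h
      refine ⟨g, hg0, fun t => ?_⟩
      have B := hh_conj (F := F) 25 27 (by norm_num) (by norm_num) (-1) t (neg_ne_zero.mpr one_ne_zero)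
      rw [d4] at B
      have e1 : ((-1 : F)) ^ (-1 : ℤ) = -1 := by
        rw [zpow_neg_one, inv_neg_one]
      rw [e1] at B
      calc m * hh 25 (-1 : F) * X 27 t * (m * hh 25 (-1 : F))⁻¹
          = m * (hh 25 (-1 : F) * X 27 t * (hh 25 (-1 : F))⁻¹) * m⁻¹ := by group
        _ = X 20 (c27 * (-1 * t)) := by rw [B, H27]
        _ = X (47 - 27) (g * g * t) := by
          rw [← hg]
          congr 1
          ring

end

end Cfsg.Agent.Helper36.F4Odd
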