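import Cfsg.Agent.Helper36.F4Odd.Defs
import Cfsg.Agent.Helper60.F4OddSG

/-!
Helper36 (S4280), piece (BL) (own hedge): an involution over a reflection-like word is a square at the reflected root.
-/

set_option autoImplicit false
set_option maxRecDepth 100000

namespace Cfsg.Agent.Helper36.F4Odd

open Cfsg Cfsg.Lie Cfsg.Agent.Helper18

section
variable {F : Type*} [Field F]

theorem chr_add (c : Fin chevF4.rank → Fˣ) (a b p : ℕ)
    (hadd : ∀ l : Fin chevF4.rank, chevF4.cartan l.val p = chevF4.cartan l.val a + chevF4.cartan l.val b) :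
    chr p c = chr a c * chr b c := by
  unfold chr
  rw [← Finset.prod_mul_distrib]
  apply Finset.prod_congr rfl
  intro l _
  rw [hadd l, zpow_add]

theorem chr_neg (c : Fin chevF4.rank → Fˣ) (a a' : ℕ)
    (hneg : ∀ l : Fin chevF4.rank, chevF4.cartan l.val a' = - chevF4.cartan l.val a) :
    chr a' c = (chr a c)⁻¹ := by
  unfold chr
  rw [← Finset.prod_inv_distrib]
  apply Finset.prod_congr rfl
  intro l _
  rw [hneg l, zpow_neg]

theorem refl_square_hedge (w : List ℕ) (hw : ∀ i ∈ w, i < 4) (a b p : ℕ) (ha : a < 48) (hb : b < 48) (hp : p < 48)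
    (h1 : aW w a = 47 - a) (h2 : aW w b = p) (h3 : aW w p = b)
    (hadd : ∀ l : Fin chevF4.rank, chevF4.cartan l.val p = chevF4.cartan l.val a + chevF4.cartan l.val b)
    (hneg : ∀ l : Fin chevF4.rank, chevF4.cartan l.val (47 - a) = - chevF4.cartan l.val a)
    (hs1 : sgW w b * sgW w p = -1) (hs2 : sgW w a = -1)
    (c : Fin chevF4.rank → Fˣ) (hmm : (tor c * nW w) * (tor c * nW w) = 1) : SqAt (tor c * nW w) a := by
  set m : GL chevF4.Idx F := tor c * nW w with hm
  have hminv : m⁻¹ = m := inv_eq_of_mul_eq_one_right hmm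
  have hb' := Cfsg.Agent.Helper60.F4Odd.monomial_conj_sg (F := F) c w hw b hb
  have hp' := Cfsg.Agent.Helper60.F4Odd.monomial_conj_sg (F := F) c w hw p hp
  have ha' := Cfsg.Agent.Helper60.F4Odd.monomial_conj_sg (F := F) c w hw a ha
  rw [h2] at hb'
  rw [h3] at hp'
  rw [h1] at ha'
  -- `m² = 1` on `X_b`
  have e1 : X b (1 : F) = X b ((chr b c : Fˣ) * ((sgW w p : ℤ) : F) * ((chr p c : Fˣ) * ((sgW w b : ℤ) : F) * 1)) := by
    have : X b (1 : F) = m * (m * X b 1 * m⁻¹) * m⁻¹ := by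
      have : m * (m * X b (1 : F) * m⁻¹) * m⁻¹ = (m * m) * X b 1 * (m * m)⁻¹ := by group
      rw [this, hmm]
      group
    rw [this, hb' 1, hp']
  have e2 := X_injective b hb _ _ e1
  have e3 : ((chr b c : Fˣ) : F) * ((chr p c : Fˣ) : F) = -1 := by
    have hs : ((sgW w p : ℤ) : F) * ((sgW w b : ℤ) : F) = -1 := by
      rw [← Int.cast_mul, mul_comm, hs1]
      simp
    have : (1 : F) = ((chr b c : Fˣ) : F) * ((chr p c : Fˣ) : F) * (((sgW w p : ℤ) : F) * ((sgW w b : ℤ) : F)) := by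
      rw [e2]; ring
    rw [hs] at this
    linear_combination this
  have e4 : ((chr a c : Fˣ) : F) * (((chr b c : Fˣ) : F) * ((chr b c : Fˣ) : F)) = -1 := by
    rw [chr_add c a b p hadd] at e3
    rw [← e3]
    push_cast
    ring
  refine ⟨((chr b c : Fˣ) : F), Units.ne_zero _, fun t => ?_⟩
  rw [ha' t, chr_neg c a (47 - a) hneg, hs2]
  congr 1
  have hne : ((chr a c : Fˣ) : F) ≠ 0 := Units.ne_zero _
  rw [Units.val_inv_eq_inv_val]
  field_simp
  push_cast
  linear_combination -t * e4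

end

end Cfsg.Agent.Helper36.F4Odd
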