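import Cfsg.Agent.Helper36.F4Odd.PiecesI

/-!
Helper36 (S4280), PART I assembled: every involution of `F₄(F)`, `|F|` odd, is conjugate to an element of `H`.
-/

set_option autoImplicit false
set_option maxRecDepth 100000

namespace Cfsg.Agent.Helper36.F4Odd

open Cfsg Cfsg.Lie Cfsg.Agent.Helper18 Cfsg.Agent.Helper36.F4OddSkel

section
variable {F : Type*} [Field F]

theorem stdW_letters : ∀ κ < 7, ∀ i ∈ stdW.getD κ [], i < 4 := by decide

theorem std_data0 : aW [3] 24 = 47 - 24 ∧ aW [3] 25 = 26 ∧ aW [3] 26 = 25 ∧ sgW [3] 25 * sgW [3] 26 = -1 ∧ sgW [3] 24 = -1 := by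
  decide +kernel

theorem std_data1 : aW [0] 33 = 47 - 33 ∧ aW [0] 27 = 34 ∧ aW [0] 34 = 27 ∧ sgW [0] 27 * sgW [0] 34 = -1 ∧ sgW [0] 33 = -1 := by
  decide +kernel

theorem std_data2 : aW [0, 3] 24 = 47 - 24 ∧ aW [0, 3] 25 = 26 ∧ aW [0, 3] 26 = 25 ∧
    sgW [0, 3] 25 * sgW [0, 3] 26 = -1 ∧ sgW [0, 3] 24 = -1 := by
  decide +kernel

theorem cartan_add26 : ∀ l : Fin chevF4.rank, chevF4.cartan l.val 26 = chevF4.cartan l.val 24 + chevF4.cartan l.val 25 := by
  decide

theorem cartan_add34 : ∀ l : Fin chevF4.rank, chevF4.cartan l.val 34 = chevF4.cartan l.val 33 + chevF4.cartan l.val 27 := by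
  decide

theorem cartan_neg24 : ∀ l : Fin chevF4.rank, chevF4.cartan l.val (47 - 24) = - chevF4.cartan l.val 24 := by decide

theorem cartan_neg33 : ∀ l : Fin chevF4.rank, chevF4.cartan l.val (47 - 33) = - chevF4.cartan l.val 33 := by decide

theorem std_dataA : ∀ κ < 7, 3 ≤ κ → aW (stdW.getD κ []) 25 = 22 ∧ aW (stdW.getD κ []) 27 = 20 ∧ aW (stdW.getD κ []) 28 = 19 ∧
    ∀ x < 48, aW (2 :: (stdW.getD κ [] ++ [2])) x = aW (stdW.getD κ []) x := by
  decide +kernel

theorem negCount_lt : negCount (3 :: stdW.getD 0 []) < negCount (stdW.getD 0 []) ∧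
    negCount (0 :: stdW.getD 1 []) < negCount (stdW.getD 1 []) ∧
    negCount (3 :: stdW.getD 2 []) < negCount (stdW.getD 2 []) ∧
    ∀ κ < 7, 3 ≤ κ → negCount (2 :: stdW.getD κ []) < negCount (stdW.getD κ []) ∧
      negCount (1 :: stdW.getD κ []) < negCount (stdW.getD κ []) := by
  decide +kernel

/-- the standard step: an involution `k n_{std κ}` is conjugate to an involution `k' n_{ι :: std κ}` with fewer negated roots -/
theorem std_step [Fintype F] (hF : Odd (Fintype.card F)) (κ : ℕ) (hκ : κ < 7) (k : GL chevF4.Idx F)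
    (hk : k ∈ chevF4.diagonalSubgroup F) (hmm : (k * nW (stdW.getD κ [])) * (k * nW (stdW.getD κ [])) = 1) :
    ∃ ι < 4, negCount (ι :: stdW.getD κ []) < negCount (stdW.getD κ []) ∧
      ∃ k' ∈ chevF4.diagonalSubgroup F, (k' * nW (ι :: stdW.getD κ [])) * (k' * nW (ι :: stdW.getD κ [])) = 1 ∧
        ConjG (k * nW (stdW.getD κ [])) (k' * nW (ι :: stdW.getD κ [])) := by
  obtain ⟨c, rfl⟩ := (mem_diagonal_iff k).mp hk
  have hlet := stdW_letters κ hκ
  by_cases h3 : 3 ≤ κ
  · -- types `B₂`, `B₃`, `C₃`, `F₄`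
    obtain ⟨h1, h2, h3', hcomm⟩ := std_dataA κ hκ h3
    obtain ⟨c', hconj, hsq⟩ := adj_square hF (stdW.getD κ []) hlet h1 h2 h3' hcomm c hmm
    have hmm' := hconj.sq_eq_one hmm
    obtain ⟨hlt2, hlt1⟩ := negCount_lt.2.2.2 κ hκ h3
    rcases hsq with hsq | hsq
    · obtain ⟨k', hk', h4, h5⟩ := split_step hF 2 (by norm_num) (stdW.getD κ []) hlet (tor c') (tor_mem c') hmm' hsq
      exact ⟨2, by norm_num, hlt2, k', hk', h4, hconj.trans h5⟩
    · obtain ⟨k', hk', h4, h5⟩ := split_step hF 1 (by norm_num) (stdW.getD κ []) hlet (tor c') (tor_mem c') hmm' hsq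
      exact ⟨1, by norm_num, hlt1, k', hk', h4, hconj.trans h5⟩
  · have hκ3 : κ < 3 := by omega
    interval_cases κ
    · obtain ⟨d1, d2, d3, d4, d5⟩ := std_data0
      have hsq : SqAt (tor c * nW (stdW.getD 0 [])) 24 :=
        refl_square [3] (by decide) 24 25 26 (by norm_num) (by norm_num) (by norm_num) d1 d2 d3 cartan_add26 cartan_neg24 d4 d5 c hmm
      obtain ⟨k', hk', h4, h5⟩ := split_step hF 3 (by norm_num) (stdW.getD 0 []) hlet (tor c) (tor_mem c) hmm hsq
      exact ⟨3, by norm_num, negCount_lt.1, k', hk', h4, h5⟩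
    · obtain ⟨d1, d2, d3, d4, d5⟩ := std_data1
      have hsq : SqAt (tor c * nW (stdW.getD 1 [])) 33 :=
        refl_square [0] (by decide) 33 27 34 (by norm_num) (by norm_num) (by norm_num) d1 d2 d3 cartan_add34 cartan_neg33 d4 d5 c hmm
      obtain ⟨k', hk', h4, h5⟩ := split_step hF 0 (by norm_num) (stdW.getD 1 []) hlet (tor c) (tor_mem c) hmm hsq
      exact ⟨0, by norm_num, negCount_lt.2.1, k', hk', h4, h5⟩
    · obtain ⟨d1, d2, d3, d4, d5⟩ := std_data2
      have hsq : SqAt (tor c * nW (stdW.getD 2 [])) 24 :=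
        refl_square [0, 3] (by decide) 24 25 26 (by norm_num) (by norm_num) (by norm_num) d1 d2 d3 cartan_add26 cartan_neg24 d4 d5 c hmm
      obtain ⟨k', hk', h4, h5⟩ := split_step hF 3 (by norm_num) (stdW.getD 2 []) hlet (tor c) (tor_mem c) hmm hsq
      exact ⟨3, by norm_num, negCount_lt.2.2.1, k', hk', h4, h5⟩

/-- the involutions of `N` are conjugate into `H` -/
theorem monomial_invol_to_diag [Fintype F] (hF : Odd (Fintype.card F)) :
    ∀ (n : ℕ) (w : List ℕ), (∀ i ∈ w, i < 4) → ∀ k ∈ chevF4.diagonalSubgroup F, negCount w = n →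
      (k * nW w) * (k * nW w) = 1 → ∃ h ∈ chevF4.diagonalSubgroup F, ConjG (k * nW w) h := by
  intro n
  induction n using Nat.strong_induction_on with
  | _ n ih =>
    intro w hw k hk hn hmm
    obtain ⟨c, rfl⟩ := (mem_diagonal_iff k).mp hk
    have hinv := invol_perm c w hw hmm
    rcases invol_word_cases w hw hinv with hid | ⟨v, κ, hv, hκ, hcount, hconj⟩
    · -- `w` acts trivially: `n_w ∈ H`
      obtain ⟨k₁, hk₁, e⟩ := nW_congr (F := F) w [] hw (by simp) (fun r hr => by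
        rw [← (aW_eq_rho w hw r hr).1, ← (aW_eq_rho [] (by simp) r hr).1, hid r hr]; rfl)
      refine ⟨tor c * nW w, ?_, ConjG.refl _⟩
      rw [e, nW_nil, mul_one]
      exact mul_mem (tor_mem c) hk₁
    · have hlet := stdW_letters κ hκ
      obtain ⟨k', hk', e⟩ := conj_to_std w v (stdW.getD κ []) hw hv hlet hconj (tor c) (tor_mem c)
      have hc1 : ConjG (tor c * nW w) (k' * nW (stdW.getD κ [])) :=
        ⟨nW v, monomial_le_group (nW_mem v hv), e⟩
      have hmm1 := hc1.sq_eq_one hmm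
      obtain ⟨ι, hι, hlt, k'', hk'', hmm2, hc2⟩ := std_step hF κ hκ k' hk' hmm1
      have hlet2 : ∀ i ∈ ι :: stdW.getD κ [], i < 4 := by
        intro i hi
        rcases List.mem_cons.mp hi with rfl | hi
        · exact hι
        · exact hlet i hi
      obtain ⟨h, hh, hc3⟩ := ih (negCount (ι :: stdW.getD κ [])) (by rw [← hn, hcount]; exact hlt)
        (ι :: stdW.getD κ []) hlet2 k'' hk'' rfl hmm2
      exact ⟨h, hh, (hc1.trans hc2).trans hc3⟩

/-- **PART I**: every involution of `F₄(F)`, `|F|` odd, is conjugate to an element of `H` -/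
theorem invol_to_diag [Fintype F] (hF : Odd (Fintype.card F)) (t : GL chevF4.Idx F) (ht : t ∈ chevF4.group F)
    (h2 : t * t = 1) : ∃ h ∈ chevF4.diagonalSubgroup F, ConjG t h := by
  obtain ⟨m, hm, hmm, hc⟩ := invol_to_N hF t ht h2
  obtain ⟨w, hw, k, hk, rfl⟩ := monomial_decomp m hm
  obtain ⟨h, hh, hc2⟩ := monomial_invol_to_diag hF (negCount w) w hw k hk rfl hmm
  exact ⟨h, hh, hc.trans hc2⟩

end

end Cfsg.Agent.Helper36.F4Odd
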