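import Cfsg.Agent.Helper36.F4Odd.CentCount
import Cfsg.Agent.Helper60.F4OddCS
import Cfsg.Agent.Helper60.F4OddTC
import Cfsg.Agent.Helper55.F4OddTE
import Cfsg.Agent.Helper55.F4OddUM
import Cfsg.Agent.Helper93.F4OddTI
import Cfsg.Agent.Helper37.F4OddHI
import Cfsg.Agent.Helper29.F4OddHC
import Cfsg.Agent.Helper68.F4OddCM
import Cfsg.Agent.Helper68.F4OddTG
import Cfsg.Agent.Helper10.F4OddDS
import Cfsg.Agent.Helper50.F4OddUL
import Cfsg.Agent.Helper50.F4OddLC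
import Cfsg.Agent.Helper66.F4OddT1
import Cfsg.Agent.Helper66.F4OddT8

/-!
helper36, S4280 PARTS II and III: the pieces of batch II+III (board #12203), collected from the files of the helpers
under the names used by `MainII` and `Final`.
-/

set_option autoImplicit false
set_option maxRecDepth 100000

namespace Cfsg.Agent.Helper36.F4OddSkel

open Cfsg Cfsg.Lie Cfsg.Agent.Helper18 Cfsg.Agent.Helper36.F4Odd Cfsg.Agent.Helper19.Twist
  Cfsg.Agent.Helper36.FieldFix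

variable {F : Type*} [Field F]

theorem chr_sv (b s : ℕ) (hb : b < 16) (hs : s < 48) :
    chr s (sv (F := F) b) = if par b s then -1 else 1 :=
  Cfsg.Agent.Helper60.F4Odd.chr_sv b s hb hs

theorem tor_ext (c d : Fin chevF4.rank → Fˣ) (h : ∀ s < 48, chr s c = chr s d) : tor (F := F) c = tor d :=
  Cfsg.Agent.Helper55.F4Odd.tor_ext c d h

theorem nW_tor_conj_iff (w : List ℕ) (hw : ∀ i ∈ w, i < 4) (c d : Fin chevF4.rank → Fˣ) :
    nW w * tor c * (nW w)⁻¹ = tor (F := F) d ↔ ∀ s < 48, chr (aW w s) d = chr s c :=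
  Cfsg.Agent.Helper60.F4Odd.nW_tor_conj_iff w hw c d

theorem tor_inj (c d : Fin chevF4.rank → Fˣ) (h : tor (F := F) c = tor d) : c = d :=
  Cfsg.Agent.Helper93.F4Odd.tor_inj c d h

theorem diag_invol (k : GL chevF4.Idx F) (hk : k ∈ chevF4.diagonalSubgroup F) (hkk : k * k = 1) (hk1 : k ≠ 1) :
    ∃ b : ℕ, 0 < b ∧ b < 16 ∧ k = tor (sv b) :=
  Cfsg.Agent.Helper37.F4Odd.diag_invol tor_inj k hk hkk hk1

theorem sv_conj (b : ℕ) (hb0 : 0 < b) (hb : b < 16) :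
    ConjG (tor (F := F) (sv b)) (tor (sv 1)) ∨ ConjG (tor (F := F) (sv b)) (tor (sv 8)) :=
  Cfsg.Agent.Helper29.F4Odd.sv_conj nW_tor_conj_iff chr_sv b hb0 hb

theorem nW_mem_Zc_iff [Fintype F] (hF : Odd (Fintype.card F)) (b : ℕ) (hb : b < 16) (w : List ℕ) (hw : ∀ i ∈ w, i < 4) :
    nW w ∈ Zc (tor (F := F) (sv b)) ↔ presB b w = true :=
  Cfsg.Agent.Helper68.F4Odd.nW_mem_Zc_iff hF nW_tor_conj_iff chr_sv b hb w hw

theorem nW_dist (w w' : List ℕ) (hw : ∀ i ∈ w, i < 4) (hw' : ∀ i ∈ w', i < 4)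
    (h : (nW (F := F) w)⁻¹ * nW w' ∈ chevF4.diagonalSubgroup F) : ∀ x < 48, aW w x = aW w' x :=
  Cfsg.Agent.Helper10.F4Odd.nW_dist w w' hw hw' h

theorem card_list_cent [Fintype F] (hF : Odd (Fintype.card F)) (b : ℕ) (hb : b < 16) (P : List ℕ)
    (hP : ClosedList chevF4 phiO P) :
    Nat.card ↥(listSubgroup chevF4 F P ⊓ Zc (tor (F := F) (sv b))) =
      Fintype.card F ^ (P.filter fun r => !par b r).length :=
  Cfsg.Agent.Helper50.F4Odd.card_list_cent hF b hb P hP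

theorem pos_eq_list : chevF4.posUnipotent F = listSubgroup chevF4 F posList :=
  Cfsg.Agent.Helper50.F4Odd.pos_eq_list

theorem Um_nW (w : List ℕ) (hw : ∀ i ∈ w, i < 4) :
    Um chevF4 F (nW w) = listSubgroup chevF4 F (negList w) :=
  Cfsg.Agent.Helper55.F4Odd.Um_nW w hw

theorem Tb_letters (b : ℕ) : ∀ w ∈ Tb b, ∀ i ∈ w, i < 4 :=
  Cfsg.Agent.Helper68.F4Odd.Tb_letters b

theorem Tb_complete (b : ℕ) (w : List ℕ) (hw : ∀ i ∈ w, i < 4) (h : presB b w = true) :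
    ∃ i, i < (Tb b).length ∧ ∀ x < 48, aW w x = aW ((Tb b).getD i []) x :=
  Cfsg.Agent.Helper68.F4Odd.Tb_complete b w hw h

theorem Tb1_distinct : ∀ i < (Tb 1).length, ∀ j < (Tb 1).length,
    (∀ x < 48, aW ((Tb 1).getD i []) x = aW ((Tb 1).getD j []) x) → i = j :=
  Cfsg.Agent.Helper66.F4Odd.Tb1_distinct

theorem Tb1_closed : ∀ w ∈ Tb 1, ClosedList chevF4 phiO (negList w) :=
  Cfsg.Agent.Helper66.F4Odd.Tb1_closed

theorem Tb1_sum (q : ℕ) : ((Tb 1).map fun w => q ^ ell 1 w).sum =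
    1 + 4 * q + 9 * q ^ 2 + 16 * q ^ 3 + 24 * q ^ 4 + 32 * q ^ 5 + 39 * q ^ 6 + 44 * q ^ 7 + 46 * q ^ 8 + 44 * q ^ 9 +
      39 * q ^ 10 + 32 * q ^ 11 + 24 * q ^ 12 + 16 * q ^ 13 + 9 * q ^ 14 + 4 * q ^ 15 + q ^ 16 :=
  Cfsg.Agent.Helper66.F4Odd.Tb1_sum q

theorem Tb8_distinct : ∀ i < (Tb 8).length, ∀ j < (Tb 8).length,
    (∀ x < 48, aW ((Tb 8).getD i []) x = aW ((Tb 8).getD j []) x) → i = j :=
  Cfsg.Agent.Helper66.F4Odd.Tb8_distinct

theorem Tb8_closed : ∀ w ∈ Tb 8, ClosedList chevF4 phiO (negList w) :=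
  Cfsg.Agent.Helper66.F4Odd.Tb8_closed

theorem Tb8_sum (q : ℕ) : ((Tb 8).map fun w => q ^ ell 8 w).sum =
    1 + 4 * q + 8 * q ^ 2 + 12 * q ^ 3 + 15 * q ^ 4 + 16 * q ^ 5 + 15 * q ^ 6 + 12 * q ^ 7 + 8 * q ^ 8 + 4 * q ^ 9 +
      q ^ 10 :=
  Cfsg.Agent.Helper66.F4Odd.Tb8_sum q

end Cfsg.Agent.Helper36.F4OddSkel
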