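import Cfsg.Agent.Helper36.F4Odd.MainI
import Cfsg.Agent.Helper36.F4Odd.PiecesII
import Cfsg.Agent.Helper36.F4Odd.CentCount

/-!
Helper36 (S4280), PARTS II and III assembled: every involution of `F₄(F)`, `|F|` odd, is conjugate to `tor (sv 1)` or to
`tor (sv 8)`; the orders of their centralizers.
-/

set_option autoImplicit false
set_option maxRecDepth 100000

namespace Cfsg.Agent.Helper36.F4Odd

open Cfsg Cfsg.Lie Cfsg.Agent.Helper18 Cfsg.Agent.Helper36.F4OddSkel Cfsg.Agent.Helper19.Twist
  Cfsg.Agent.Helper36.FieldFix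

section
variable {F : Type*} [Field F] [Fintype F]

/-- every involution is conjugate to one of the two standard involutions of `H` -/
theorem invol_classes (hF : Odd (Fintype.card F)) (u : GL chevF4.Idx F) (hu : u ∈ chevF4.group F)
    (h2 : u * u = 1) (h1 : u ≠ 1) : ConjG u (tor (sv 1)) ∨ ConjG u (tor (sv 8)) := by
  obtain ⟨h, hh, hc⟩ := invol_to_diag hF u hu h2
  have hh2 : h * h = 1 := hc.sq_eq_one h2
  have hh1 : h ≠ 1 := by
    rintro rfl
    obtain ⟨g, -, e⟩ := hc
    apply h1
    have : u = g⁻¹ * (g * u * g⁻¹) * g := by group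
    rw [this, e]
    group
  obtain ⟨b, hb0, hb, rfl⟩ := diag_invol h hh hh2 hh1
  rcases sv_conj (F := F) b hb0 hb with h | h
  · left; exact hc.trans h
  · right; exact hc.trans h

theorem sum_fin_getD {α : Type*} (l : List α) (d : α) (f : α → ℕ) :
    ∑ i : Fin l.length, f (l.getD i.val d) = (l.map f).sum := by
  induction l with
  | nil => simp
  | cons a l ih =>
    rw [List.map_cons, List.sum_cons, ← ih]
    rw [show (a :: l).length = l.length + 1 from rfl, Fin.sum_univ_succ]
    simp

theorem getD_mem_of_lt {α : Type*} (l : List α) (d : α) (i : ℕ) (hi : i < l.length) : l.getD i d ∈ l := by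
  rw [List.getD_eq_getElem l d hi]
  exact List.getElem_mem hi

/-- the order of the centralizer of `tor (sv b)` -/
theorem card_Zc (hF : Odd (Fintype.card F)) (b : ℕ) (hb : b < 16)
    (hdistinct : ∀ i < (Tb b).length, ∀ j < (Tb b).length,
      (∀ x < 48, aW ((Tb b).getD i []) x = aW ((Tb b).getD j []) x) → i = j)
    (hclosed : ∀ w ∈ Tb b, ClosedList chevF4 phiO (negList w)) :
    Nat.card ↥(chevF4.group F ⊓ Zc (tor (F := F) (sv b))) =
      Fintype.card F ^ (posList.filter fun r => !par b r).length * Nat.card ↥(chevF4.diagonalSubgroup F) *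
        ((Tb b).map fun w => Fintype.card F ^ ell b w).sum := by
  have hmemT : ∀ i : Fin (Tb b).length, (Tb b).getD i.val [] ∈ Tb b := fun i => getD_mem_of_lt _ _ _ i.2
  have hlet : ∀ i : Fin (Tb b).length, ∀ l ∈ (Tb b).getD i.val [], l < 4 := fun i => Tb_letters b _ (hmemT i)
  have hpres : ∀ w ∈ Tb b, presB b w = true := fun w hw => (List.mem_filter.mp hw).2
  rw [cent_card (tor (sv b)) (tor_mem _) (fun i : Fin (Tb b).length => nW ((Tb b).getD i.val []))
    (fun i => nW_mem _ (hlet i))
    (fun i => (nW_mem_Zc_iff hF b hb _ (hlet i)).mpr (hpres _ (hmemT i)))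
    (fun i j h => Fin.ext (hdistinct i.val i.2 j.val j.2 (nW_dist _ _ (hlet i) (hlet j) h)))
    ?_]
  · rw [pos_eq_list, card_list_cent hF b hb posList closed_posList]
    congr 1
    rw [← sum_fin_getD (Tb b) [] (fun w => Fintype.card F ^ ell b w)]
    apply Finset.sum_congr rfl
    intro i _
    rw [Um_nW _ (hlet i), card_list_cent hF b hb _ (hclosed _ (hmemT i))]
    rfl
  · intro n hn hnZ
    obtain ⟨w, hw, k, hk, rfl⟩ := monomial_decomp n hn
    have hkZ : k ∈ Zc (tor (F := F) (sv b)) := diagonal_le_Zc _ (tor_mem _) hk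
    have hwZ : nW w ∈ Zc (tor (F := F) (sv b)) := by
      have : nW w = k⁻¹ * (k * nW w) := by group
      rw [this]
      exact mul_mem (inv_mem hkZ) hnZ
    have hp := (nW_mem_Zc_iff hF b hb w hw).mp hwZ
    obtain ⟨i, hi, hact⟩ := Tb_complete b w hw hp
    have hli := hlet ⟨i, hi⟩
    obtain ⟨k', hk', e⟩ := nW_congr (F := F) w ((Tb b).getD i []) hw hli (fun r hr => by
      rw [← (aW_eq_rho w hw r hr).1, ← (aW_eq_rho _ hli r hr).1]
      exact hact r hr)
    refine ⟨⟨i, hi⟩, ?_⟩
    show (nW ((Tb b).getD i []))⁻¹ * (k * nW w) ∈ _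
    rw [e]
    have : (nW (F := F) ((Tb b).getD i []))⁻¹ * (k * (k' * nW ((Tb b).getD i []))) =
        (nW ((Tb b).getD i []))⁻¹ * (k * k') * nW ((Tb b).getD i []) := by group
    rw [this]
    exact conj_mem_diagonal' _ _ (nW_mem _ hli) (mul_mem hk hk')

end

end Cfsg.Agent.Helper36.F4Odd
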