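import Cfsg.Agent.Helper36.F4Odd.Api
import Cfsg.Agent.Helper36.F4Mix.P_NP
import Cfsg.Agent.Helper36.F4Mix.P_WC

/-!
Helper36 (S4280): the monomial group `N` of `F₄(F)`: representatives `nW w` of words, their action on the root groups,
conjugacy under `G`, the reduction of involutions to `N` (port of helper18's `G2N`, `G2B`).
-/

set_option autoImplicit false
set_option maxRecDepth 100000

namespace Cfsg.Agent.Helper36.F4Odd

open Cfsg Cfsg.Lie Cfsg.Agent.Helper18 Cfsg.Agent.Helper40.SL2Hom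

section
variable {F : Type*} [Field F]

/-- the product of the fundamental `n_p` along a word in `{0, 1, 2, 3}` -/
noncomputable def nW (w : List ℕ) : GL chevF4.Idx F := nWordsGL chevF4 F w

theorem nW_nil : nW (F := F) [] = 1 := by simp [nW, nWordsGL]

theorem nW_cons (i : ℕ) (w : List ℕ) :
    nW (F := F) (i :: w) = wordGL chevF4 F (chevF4.nWord (chevF4.simple i) (1 : F)) * nW w := by
  simp [nW, nWordsGL]

theorem nW_append (w₁ w₂ : List ℕ) : nW (F := F) (w₁ ++ w₂) = nW w₁ * nW w₂ := by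
  simp [nW, nWordsGL, List.map_append, List.prod_append]

theorem nW_mem (w : List ℕ) (hw : ∀ i ∈ w, i < 4) : nW (F := F) w ∈ chevF4.monomialSubgroup F :=
  nWordsGL_mem chevF4 hF4 w hw

theorem simple_lt48 (i : ℕ) (hi : i < 4) : chevF4.simple i < 48 :=
  simple_lt chevF4 (simpleOK_of_mem chevF4 hF4) i hi

/-- `nW [i] = n_{p_i}` -/
theorem nW_singleton (i : ℕ) (hi : i < 4) : nW (F := F) [i] = nn (chevF4.simple i) := by
  rw [nW_cons, nW_nil, mul_one, nn_eq _ (simple_lt48 i hi)]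

/-- `H` is normalised by `N` -/
theorem conj_mem_diagonal (n k : GL chevF4.Idx F) (hn : n ∈ chevF4.monomialSubgroup F)
    (hk : k ∈ chevF4.diagonalSubgroup F) : n * k * n⁻¹ ∈ chevF4.diagonalSubgroup F :=
  (Subgroup.mem_normalizer_iff.mp (monomialSubgroup_le_normalizer chevF4 hF4 hn) _).mp hk

theorem conj_mem_diagonal' (n k : GL chevF4.Idx F) (hn : n ∈ chevF4.monomialSubgroup F)
    (hk : k ∈ chevF4.diagonalSubgroup F) : n⁻¹ * k * n ∈ chevF4.diagonalSubgroup F := by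
  have := conj_mem_diagonal n⁻¹ k (inv_mem hn) hk
  rwa [inv_inv] at this

theorem diagonal_le_monomial : chevF4.diagonalSubgroup F ≤ chevF4.monomialSubgroup F :=
  diagonalSubgroup_le_monomialSubgroup (F := F) chevF4

/-- every element of `N` is `k n_w` -/
theorem monomial_decomp (n : GL chevF4.Idx F) (hn : n ∈ chevF4.monomialSubgroup F) :
    ∃ w : List ℕ, (∀ i ∈ w, i < 4) ∧ ∃ k ∈ chevF4.diagonalSubgroup F, n = k * nW w :=
  mem_monomial_decomp chevF4 hF4 n hn

/-- words with the same action on the roots have representatives that differ by an element of `H` -/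
theorem nW_congr (w w' : List ℕ) (hw : ∀ i ∈ w, i < 4) (hw' : ∀ i ∈ w', i < 4)
    (h : ∀ r < 48, rho chevF4 w r = rho chevF4 w' r) :
    ∃ k ∈ chevF4.diagonalSubgroup F, nW (F := F) w = k * nW w' :=
  Cfsg.Agent.Helper36.F4Mix.nWords_congr w w' hw hw' h

theorem reflect_lt (i s : ℕ) (hi : i < chevF4.rank) (hs : s < chevF4.nroots) : chevF4.reflectRoot i s < chevF4.nroots :=
  reflectRoot_lt chevF4 hF4 i s hi hs

/-- `n_w x_s(t) n_w⁻¹ = x_{w s}(± t)` -/
theorem nW_conj (w : List ℕ) (hw : ∀ i ∈ w, i < 4) (s : ℕ) (hs : s < 48) :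
    rho chevF4 w s < 48 ∧ ∃ η : F, (η = 1 ∨ η = -1) ∧
      ∀ t : F, nW w * X s t * (nW w)⁻¹ = X (rho chevF4 w s) (η * t) := by
  obtain ⟨hlt, η, hη, h⟩ := nWordsGL_conj_xGL (F := F) chevF4 hF4 (nConjHyp chevF4 hF4) reflect_lt w hw s hs
  refine ⟨hlt, (η : F), ?_, fun t => ?_⟩
  · rcases hη with rfl | rfl
    · left; simp
    · right; simp
  · rw [mul_inv_eq_iff_eq_mul]
    exact h t

theorem X_injective (r : ℕ) (hr : r < 48) (a b : F) (h : X r a = X r b) : a = b := by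
  apply x_injective chevF4 hF4 r hr
  have := congrArg (fun g : GL chevF4.Idx F => (g : Matrix chevF4.Idx chevF4.Idx F)) h
  simpa [X, xGL_val chevF4 _ (triOK_of_mem chevF4 hF4)] using this

theorem X_mem_pos (r : ℕ) (hr : 24 ≤ r ∧ r < 48) (t : F) : X r t ∈ chevF4.posUnipotent F :=
  xGL_mem_posUnipotent chevF4 hF4 r hr t

theorem X_zero (r : ℕ) : X r (0 : F) = 1 := xGL_zero' chevF4 hF4 r

theorem X_neg (r : ℕ) (t : F) : X r (-t) = (X r t)⁻¹ := by
  apply eq_inv_of_mul_eq_one_left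
  rw [← X_add, neg_add_cancel, X_zero]

/-- the action of `k n_w` on the root groups -/
theorem monomial_conj (c : Fin chevF4.rank → Fˣ) (w : List ℕ) (hw : ∀ i ∈ w, i < 4) (s : ℕ) (hs : s < 48) :
    rho chevF4 w s < 48 ∧ ∃ η : F, (η = 1 ∨ η = -1) ∧
      ∀ t : F, (tor c * nW w) * X s t * (tor c * nW w)⁻¹ = X (rho chevF4 w s) ((chr (rho chevF4 w s) c : Fˣ) * η * t) := by
  obtain ⟨hlt, η, hη, hconj⟩ := nW_conj (F := F) w hw s hs
  refine ⟨hlt, η, hη, fun t => ?_⟩
  have e : tor c * nW w * X s t * (tor c * nW w)⁻¹ =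
      tor c * (nW w * X s t * (nW w)⁻¹) * (tor c)⁻¹ := by group
  rw [e, hconj t, tor_conj c _ hlt, mul_assoc]

/-- conjugacy under the group `F₄(F)` (for elements of the ambient general linear group) -/
def ConjG (x y : GL chevF4.Idx F) : Prop := ∃ g ∈ chevF4.group F, g * x * g⁻¹ = y

theorem ConjG.refl (x : GL chevF4.Idx F) : ConjG x x := ⟨1, one_mem _, by group⟩

theorem ConjG.symm {x y : GL chevF4.Idx F} (h : ConjG x y) : ConjG y x := by
  obtain ⟨g, hg, rfl⟩ := h
  exact ⟨g⁻¹, inv_mem hg, by group⟩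

theorem ConjG.trans {x y z : GL chevF4.Idx F} (h : ConjG x y) (h' : ConjG y z) : ConjG x z := by
  obtain ⟨g, hg, rfl⟩ := h
  obtain ⟨g', hg', rfl⟩ := h'
  exact ⟨g' * g, mul_mem hg' hg, by group⟩

theorem ConjG.sq_eq_one {x y : GL chevF4.Idx F} (h : ConjG x y) (hx : x * x = 1) : y * y = 1 := by
  obtain ⟨g, -, rfl⟩ := h
  calc g * x * g⁻¹ * (g * x * g⁻¹) = g * (x * x) * g⁻¹ := by group
    _ = 1 := by rw [hx]; group

theorem ConjG.mem_group {x y : GL chevF4.Idx F} (h : ConjG x y) (hx : x ∈ chevF4.group F) : y ∈ chevF4.group F := by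
  obtain ⟨g, hg, rfl⟩ := h
  exact mul_mem (mul_mem hg hx) (inv_mem hg)

theorem diagonal_le_group : chevF4.diagonalSubgroup F ≤ chevF4.group F :=
  (diagonal_le_borel (F := F) chevF4 hF4).trans borel_le_group

/-- the Bruhat decomposition `G = B N B` -/
theorem bruhat (g : GL chevF4.Idx F) (hg : g ∈ chevF4.group F) :
    ∃ b ∈ chevF4.borelSubgroup F, ∃ n ∈ chevF4.monomialSubgroup F, ∃ b' ∈ chevF4.borelSubgroup F, g = b * n * b' := by
  obtain ⟨b, hb, n, hn, u, hu, e⟩ := (Cfsg.Agent.S1100.result (F := F) chevF4 hF4).1 g hg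
  exact ⟨b, hb, n, hn, u, posUnipotent_le_borel (F := F) chevF4 hF4 (Cfsg.Agent.Helper36.bruhatU_le_pos chevF4 n hu), e⟩

/-- an involution in the cell `B n B` is conjugate to an involution in `H n` -/
theorem invol_cell [Fintype F] (hF : Odd (Fintype.card F)) (b n b' : GL chevF4.Idx F)
    (hb : b ∈ chevF4.borelSubgroup F) (hn : n ∈ chevF4.monomialSubgroup F) (hb' : b' ∈ chevF4.borelSubgroup F)
    (h2 : (b * n * b') * (b * n * b') = 1) :
    ∃ k ∈ chevF4.diagonalSubgroup F, (k * n) * (k * n) = 1 ∧ ConjG (b * n * b') (k * n) := by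
  obtain ⟨g, hg, k, hk, e, hkn⟩ := Cfsg.Agent.Helper18.InvOdd.invol_conj_monomial chevF4 hF4 hF b n b' hb hn hb' h2
  exact ⟨k, hk, hkn, g, borel_le_group hg, e⟩

/-- every involution of `F₄(F)`, `|F|` odd, is conjugate to an involution of `N` -/
theorem invol_to_N [Fintype F] (hF : Odd (Fintype.card F)) (t : GL chevF4.Idx F) (ht : t ∈ chevF4.group F)
    (h2 : t * t = 1) : ∃ m ∈ chevF4.monomialSubgroup F, m * m = 1 ∧ ConjG t m := by
  obtain ⟨b, hb, n, hn, b', hb', rfl⟩ := bruhat t ht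
  obtain ⟨k, hk, hkn, hc⟩ := invol_cell hF b n b' hb hn hb' h2
  exact ⟨k * n, mul_mem (diagonalSubgroup_le_monomialSubgroup (F := F) chevF4 hk) hn, hkn, hc⟩

end

end Cfsg.Agent.Helper36.F4Odd
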