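import Cfsg.Agent.Helper36.F4Odd.Defs
import Cfsg.Agent.Helper60.F4OddSG
import Cfsg.Agent.Helper60.F4OddSP
import Cfsg.Agent.Helper65.F4OddINV
import Cfsg.Agent.Helper65.F4OddCJ
import Cfsg.Agent.Helper22.F4OddTAB
import Cfsg.Agent.Helper50.F4OddFL
import Cfsg.Agent.Helper36.F4Odd.HedgeAL

/-!
helper36, S4280 PART I: the nine pieces of batch I (board #11941), collected from the files of the helpers
(helper60: SG, SG2, SP; helper65: INV, CJ; helper22: TAB; helper50: FL; helper36: BL, AL) under the names used by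
`MainI`.
-/

set_option autoImplicit false
set_option maxRecDepth 100000

namespace Cfsg.Agent.Helper36.F4OddSkel

open Cfsg Cfsg.Lie Cfsg.Agent.Helper18 Cfsg.Agent.Helper36.F4Odd Cfsg.Agent.Helper40.SL2Hom

variable {F : Type*} [Field F]

theorem nW_conj_sg (w : List ℕ) (hw : ∀ i ∈ w, i < 4) (s : ℕ) (hs : s < 48) (t : F) :
    nW w * X s t * (nW w)⁻¹ = X (aW w s) (((sgW w s : ℤ) : F) * t) :=
  Cfsg.Agent.Helper60.F4Odd.nW_conj_sg w hw s hs t

theorem monomial_conj_sg (c : Fin chevF4.rank → Fˣ) (w : List ℕ) (hw : ∀ i ∈ w, i < 4) (s : ℕ) (hs : s < 48) (t : F) :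
    (tor c * nW w) * X s t * (tor c * nW w)⁻¹ = X (aW w s) ((chr (aW w s) c : Fˣ) * ((sgW w s : ℤ) : F) * t) :=
  Cfsg.Agent.Helper60.F4Odd.monomial_conj_sg c w hw s hs t

theorem invol_perm (c : Fin chevF4.rank → Fˣ) (w : List ℕ) (hw : ∀ i ∈ w, i < 4)
    (hmm : (tor c * nW w) * (tor c * nW w) = 1) : ∀ x < 48, aW w (aW w x) = x :=
  Cfsg.Agent.Helper65.F4OddINV.invol_perm c w hw hmm

theorem invol_word_cases (w : List ℕ) (hw : ∀ i ∈ w, i < 4) (hinv : ∀ x < 48, aW w (aW w x) = x) :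
    (∀ x < 48, aW w x = x) ∨
    ∃ (v : List ℕ) (κ : ℕ), (∀ i ∈ v, i < 4) ∧ κ < 7 ∧ negCount w = negCount (stdW.getD κ []) ∧
      ∀ x < 48, aW (v ++ w ++ v.reverse) x = aW (stdW.getD κ []) x :=
  Cfsg.Agent.Helper22.F4Odd.invol_word_cases w hw hinv

theorem conj_to_std (w v s : List ℕ) (hw : ∀ i ∈ w, i < 4) (hv : ∀ i ∈ v, i < 4) (hs : ∀ i ∈ s, i < 4)
    (h : ∀ x < 48, aW (v ++ w ++ v.reverse) x = aW s x) (k : GL chevF4.Idx F) (hk : k ∈ chevF4.diagonalSubgroup F) :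
    ∃ k' ∈ chevF4.diagonalSubgroup F, nW v * (k * nW w) * (nW v)⁻¹ = k' * nW s :=
  Cfsg.Agent.Helper65.F4OddCJ.conj_to_std w v s hw hv hs h k hk

theorem refl_square (w : List ℕ) (hw : ∀ i ∈ w, i < 4) (a b p : ℕ) (ha : a < 48) (hb : b < 48) (hp : p < 48)
    (h1 : aW w a = 47 - a) (h2 : aW w b = p) (h3 : aW w p = b)
    (hadd : ∀ l : Fin chevF4.rank, chevF4.cartan l.val p = chevF4.cartan l.val a + chevF4.cartan l.val b)
    (hneg : ∀ l : Fin chevF4.rank, chevF4.cartan l.val (47 - a) = - chevF4.cartan l.val a)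
    (hs1 : sgW w b * sgW w p = -1) (hs2 : sgW w a = -1)
    (c : Fin chevF4.rank → Fˣ) (hmm : (tor c * nW w) * (tor c * nW w) = 1) : SqAt (tor c * nW w) a :=
  Cfsg.Agent.Helper36.F4Odd.refl_square_hedge w hw a b p ha hb hp h1 h2 h3 hadd hneg hs1 hs2 c hmm

theorem flip_reduce [Fintype F] (hF : Odd (Fintype.card F)) (r : ℕ) (hr : r < 48) (m : GL chevF4.Idx F)
    (hmm : m * m = 1) (c f : F) (hf : f ≠ 0) (hc : c * (f * f) = -1)
    (hx : ∀ t : F, m * X r t * m⁻¹ = X (47 - r) (c * t)) :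
    ConjG m (m * hh r (-1)) :=
  Cfsg.Agent.Helper50.F4OddFL.flip_reduce hF r hr m hmm c f hf hc hx

theorem adj_square [Fintype F] (hF : Odd (Fintype.card F)) (w : List ℕ) (hw : ∀ i ∈ w, i < 4)
    (h1 : aW w 25 = 22) (h2 : aW w 27 = 20) (h3 : aW w 28 = 19)
    (hcomm : ∀ x < 48, aW (2 :: (w ++ [2])) x = aW w x)
    (c : Fin chevF4.rank → Fˣ) (hmm : (tor c * nW w) * (tor c * nW w) = 1) :
    ∃ c' : Fin chevF4.rank → Fˣ, ConjG (tor c * nW w) (tor c' * nW w) ∧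
      (SqAt (tor c' * nW w) 25 ∨ SqAt (tor c' * nW w) 27) :=
  Cfsg.Agent.Helper36.F4Odd.adj_square_hedge hF w hw h1 h2 h3 hcomm c hmm

theorem split_step [Fintype F] (hF : Odd (Fintype.card F)) (ι : ℕ) (hι : ι < 4) (w : List ℕ) (hw : ∀ i ∈ w, i < 4)
    (k : GL chevF4.Idx F) (hk : k ∈ chevF4.diagonalSubgroup F) (hmm : (k * nW w) * (k * nW w) = 1)
    (hsq : SqAt (k * nW w) (chevF4.simple ι)) :
    ∃ k' ∈ chevF4.diagonalSubgroup F, (k' * nW (ι :: w)) * (k' * nW (ι :: w)) = 1 ∧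
      ConjG (k * nW w) (k' * nW (ι :: w)) :=
  Cfsg.Agent.Helper60.F4Odd.split_step hF ι hι w hw k hk hmm hsq

end Cfsg.Agent.Helper36.F4OddSkel
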